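import Cfsg.Agent.H417.Two.Co3Seven
import Cfsg.Agent.H843.IMC.Co3C
import Cfsg.Agent.H769.PB.CoThreeRank5

/-!
# `Co₃`: two characters of degree divisible by `p` (helper417, row for FactTwo)
-/

set_option autoImplicit false

open Cfsg Subgroup

namespace Cfsg.Agent.H417.Two.Co3

open Cfsg.Agent.H651.Two Cfsg.Agent.H596.OneFacts Cfsg.Agent.H843.IMC

universe u

theorem three_le : 3 ≤ ND 3 Co3B.Gw := by
  have hp : Fact (Nat.Prime 3) := ⟨Nat.prime_three⟩
  have hfin : Finite Co3B.Gw := Nat.finite_of_card_ne_zero (by rw [Co3B.card_Gw]; norm_num)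
  have h27 := Co3B.hasDeg_27
  have hnd := Co3B.not_dvd_KK
  rw [Co3B.KK_eq] at h27 hnd
  refine three_le_of_elt Co3B.orderOf_x (by norm_num) (by rw [Co3B.card_Gw]; norm_num) ?_
  obtain ⟨θ, hθ⟩ := h27
  refine ⟨θ, ?_⟩
  have h1 : (Nat.card ↥(Subgroup.centralizer {Co3B.x})).factorization 3 ≤ 4 := by
    by_contra hcon
    exact hnd ((Nat.prime_three.pow_dvd_iff_le_factorization Nat.card_pos.ne').2 (by omega))
  have h2 : (charDegree (θ : ↥(Subgroup.centralizer {Co3B.x}) → ℂ)).factorization 3 = 3 := by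
    rw [hθ, show (27 : ℕ) = 3 ^ 3 by norm_num, Nat.prime_three.factorization_pow]
    simp
  rw [h2]
  exact h1

theorem two_three : Two 3 Spor.Co3 := by
  obtain ⟨f⟩ := Co3B.nonempty_equiv
  have hfin : Finite Co3B.Gw := Nat.finite_of_card_ne_zero (by rw [Co3B.card_Gw]; norm_num)
  refine two_of_equiv f (two_of_three ?_ three_le)
  rw [← Cfsg.Agent.H548.Crit.card_out_congr f, Cfsg.Agent.S2071.result]
  norm_num

theorem deg_2024 : ∃ χ : IrrCharacter Spor.Co3, charDegree (χ : Spor.Co3 → ℂ) = 2024 := by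
  obtain ⟨⟨χ, h, -⟩, -⟩ := H769.PB.CoThreeRank5.exists_chars
  exact ⟨χ, h⟩

theorem deg_8855 : ∃ χ : IrrCharacter Spor.Co3, charDegree (χ : Spor.Co3 → ℂ) = 8855 := by
  obtain ⟨-, χ, h, -⟩ := H769.PB.CoThreeRank5.exists_chars
  exact ⟨χ, h⟩

/-- **The row `Co₃`.** -/
theorem two_co3 {S : Type u} [Group S] (h : Cfsg.Spor.IsoCo3 S) {p : ℕ} [hp : Fact p.Prime]
    (hd : p ∣ Nat.card S) : TwoOr p S := by
  refine twoOr_of h hd fun hd => ?_
  have h0 := prime_mem hp.out (L := [(23, 1), (11, 1), (7, 1), (5, 3), (3, 7), (2, 10)]) (by norm_num)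
    (N := 495766656000) (by decide +kernel) (Co3A.card_co3 ▸ hd)
  simp only [List.map_cons, List.map_nil, List.mem_cons, List.not_mem_nil, or_false] at h0
  rcases h0 with rfl | rfl | rfl | rfl | rfl | rfl
  · exact two_of_degs Co3A.hasDeg_23 deg_2024 (by norm_num) (by norm_num) (by norm_num)
  · exact two_of_degs Co3A.hasDeg_275 deg_2024 (by norm_num) (by norm_num) (by norm_num)
  · exact Co3Seven.two_seven
  · exact two_of_degs Co3A.hasDeg_275 deg_8855 (by norm_num) (by norm_num) (by norm_num)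
  · exact two_three
  · exact two_of_deg_dvd deg_2024 Co3C.hasDvd_six (by norm_num) (by norm_num) (by norm_num)

end Cfsg.Agent.H417.Two.Co3
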