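import Cfsg.Agent.CoOneType.CoEval

/-!
# Two generators of `Co₃`: the matrices (helper417)

Elements of `Co₀` (24 × 24 integer matrices divided by 8) fixing the vector `leechV`.  Generated by a script; checked by
the kernel.
-/

set_option autoImplicit false
set_option maxRecDepth 100000

namespace Cfsg.Agent.H417.Two.Co3Dat

open Cfsg Cfsg.Agent.SporadicStructure.Co0Matrix Cfsg.Agent.CoOneType.CoEval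

/-- rows of `a` -/
def rA : List (List ℤ) := [
  [0, 0, 0, 0, 0, 0, 0, 0, 0, 0, 0, 0, 0, 0, 0, 0, 0, 0, 0, 0, 0, 0, 8, 0],
  [8, 0, 0, 0, 0, 0, 0, 0, 0, 0, 0, 0, 0, 0, 0, 0, 0, 0, 0, 0, 0, 0, 0, 0],
  [0, 8, 0, 0, 0, 0, 0, 0, 0, 0, 0, 0, 0, 0, 0, 0, 0, 0, 0, 0, 0, 0, 0, 0],
  [0, 0, 8, 0, 0, 0, 0, 0, 0, 0, 0, 0, 0, 0, 0, 0, 0, 0, 0, 0, 0, 0, 0, 0],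
  [0, 0, 0, 8, 0, 0, 0, 0, 0, 0, 0, 0, 0, 0, 0, 0, 0, 0, 0, 0, 0, 0, 0, 0],
  [0, 0, 0, 0, 8, 0, 0, 0, 0, 0, 0, 0, 0, 0, 0, 0, 0, 0, 0, 0, 0, 0, 0, 0],
  [0, 0, 0, 0, 0, 8, 0, 0, 0, 0, 0, 0, 0, 0, 0, 0, 0, 0, 0, 0, 0, 0, 0, 0],
  [0, 0, 0, 0, 0, 0, 8, 0, 0, 0, 0, 0, 0, 0, 0, 0, 0, 0, 0, 0, 0, 0, 0, 0],
  [0, 0, 0, 0, 0, 0, 0, 8, 0, 0, 0, 0, 0, 0, 0, 0, 0, 0, 0, 0, 0, 0, 0, 0],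
  [0, 0, 0, 0, 0, 0, 0, 0, 8, 0, 0, 0, 0, 0, 0, 0, 0, 0, 0, 0, 0, 0, 0, 0],
  [0, 0, 0, 0, 0, 0, 0, 0, 0, 8, 0, 0, 0, 0, 0, 0, 0, 0, 0, 0, 0, 0, 0, 0],
  [0, 0, 0, 0, 0, 0, 0, 0, 0, 0, 8, 0, 0, 0, 0, 0, 0, 0, 0, 0, 0, 0, 0, 0],
  [0, 0, 0, 0, 0, 0, 0, 0, 0, 0, 0, 8, 0, 0, 0, 0, 0, 0, 0, 0, 0, 0, 0, 0],
  [0, 0, 0, 0, 0, 0, 0, 0, 0, 0, 0, 0, 8, 0, 0, 0, 0, 0, 0, 0, 0, 0, 0, 0],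
  [0, 0, 0, 0, 0, 0, 0, 0, 0, 0, 0, 0, 0, 8, 0, 0, 0, 0, 0, 0, 0, 0, 0, 0],
  [0, 0, 0, 0, 0, 0, 0, 0, 0, 0, 0, 0, 0, 0, 8, 0, 0, 0, 0, 0, 0, 0, 0, 0],
  [0, 0, 0, 0, 0, 0, 0, 0, 0, 0, 0, 0, 0, 0, 0, 8, 0, 0, 0, 0, 0, 0, 0, 0],
  [0, 0, 0, 0, 0, 0, 0, 0, 0, 0, 0, 0, 0, 0, 0, 0, 8, 0, 0, 0, 0, 0, 0, 0],
  [0, 0, 0, 0, 0, 0, 0, 0, 0, 0, 0, 0, 0, 0, 0, 0, 0, 8, 0, 0, 0, 0, 0, 0],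
  [0, 0, 0, 0, 0, 0, 0, 0, 0, 0, 0, 0, 0, 0, 0, 0, 0, 0, 8, 0, 0, 0, 0, 0],
  [0, 0, 0, 0, 0, 0, 0, 0, 0, 0, 0, 0, 0, 0, 0, 0, 0, 0, 0, 8, 0, 0, 0, 0],
  [0, 0, 0, 0, 0, 0, 0, 0, 0, 0, 0, 0, 0, 0, 0, 0, 0, 0, 0, 0, 8, 0, 0, 0],
  [0, 0, 0, 0, 0, 0, 0, 0, 0, 0, 0, 0, 0, 0, 0, 0, 0, 0, 0, 0, 0, 8, 0, 0],
  [0, 0, 0, 0, 0, 0, 0, 0, 0, 0, 0, 0, 0, 0, 0, 0, 0, 0, 0, 0, 0, 0, 0, 8]]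

/-- columns of `a` -/
def cA : List (List ℤ) := [
  [0, 8, 0, 0, 0, 0, 0, 0, 0, 0, 0, 0, 0, 0, 0, 0, 0, 0, 0, 0, 0, 0, 0, 0],
  [0, 0, 8, 0, 0, 0, 0, 0, 0, 0, 0, 0, 0, 0, 0, 0, 0, 0, 0, 0, 0, 0, 0, 0],
  [0, 0, 0, 8, 0, 0, 0, 0, 0, 0, 0, 0, 0, 0, 0, 0, 0, 0, 0, 0, 0, 0, 0, 0],
  [0, 0, 0, 0, 8, 0, 0, 0, 0, 0, 0, 0, 0, 0, 0, 0, 0, 0, 0, 0, 0, 0, 0, 0],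
  [0, 0, 0, 0, 0, 8, 0, 0, 0, 0, 0, 0, 0, 0, 0, 0, 0, 0, 0, 0, 0, 0, 0, 0],
  [0, 0, 0, 0, 0, 0, 8, 0, 0, 0, 0, 0, 0, 0, 0, 0, 0, 0, 0, 0, 0, 0, 0, 0],
  [0, 0, 0, 0, 0, 0, 0, 8, 0, 0, 0, 0, 0, 0, 0, 0, 0, 0, 0, 0, 0, 0, 0, 0],
  [0, 0, 0, 0, 0, 0, 0, 0, 8, 0, 0, 0, 0, 0, 0, 0, 0, 0, 0, 0, 0, 0, 0, 0],
  [0, 0, 0, 0, 0, 0, 0, 0, 0, 8, 0, 0, 0, 0, 0, 0, 0, 0, 0, 0, 0, 0, 0, 0],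
  [0, 0, 0, 0, 0, 0, 0, 0, 0, 0, 8, 0, 0, 0, 0, 0, 0, 0, 0, 0, 0, 0, 0, 0],
  [0, 0, 0, 0, 0, 0, 0, 0, 0, 0, 0, 8, 0, 0, 0, 0, 0, 0, 0, 0, 0, 0, 0, 0],
  [0, 0, 0, 0, 0, 0, 0, 0, 0, 0, 0, 0, 8, 0, 0, 0, 0, 0, 0, 0, 0, 0, 0, 0],
  [0, 0, 0, 0, 0, 0, 0, 0, 0, 0, 0, 0, 0, 8, 0, 0, 0, 0, 0, 0, 0, 0, 0, 0],
  [0, 0, 0, 0, 0, 0, 0, 0, 0, 0, 0, 0, 0, 0, 8, 0, 0, 0, 0, 0, 0, 0, 0, 0],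
  [0, 0, 0, 0, 0, 0, 0, 0, 0, 0, 0, 0, 0, 0, 0, 8, 0, 0, 0, 0, 0, 0, 0, 0],
  [0, 0, 0, 0, 0, 0, 0, 0, 0, 0, 0, 0, 0, 0, 0, 0, 8, 0, 0, 0, 0, 0, 0, 0],
  [0, 0, 0, 0, 0, 0, 0, 0, 0, 0, 0, 0, 0, 0, 0, 0, 0, 8, 0, 0, 0, 0, 0, 0],
  [0, 0, 0, 0, 0, 0, 0, 0, 0, 0, 0, 0, 0, 0, 0, 0, 0, 0, 8, 0, 0, 0, 0, 0],
  [0, 0, 0, 0, 0, 0, 0, 0, 0, 0, 0, 0, 0, 0, 0, 0, 0, 0, 0, 8, 0, 0, 0, 0],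
  [0, 0, 0, 0, 0, 0, 0, 0, 0, 0, 0, 0, 0, 0, 0, 0, 0, 0, 0, 0, 8, 0, 0, 0],
  [0, 0, 0, 0, 0, 0, 0, 0, 0, 0, 0, 0, 0, 0, 0, 0, 0, 0, 0, 0, 0, 8, 0, 0],
  [0, 0, 0, 0, 0, 0, 0, 0, 0, 0, 0, 0, 0, 0, 0, 0, 0, 0, 0, 0, 0, 0, 8, 0],
  [8, 0, 0, 0, 0, 0, 0, 0, 0, 0, 0, 0, 0, 0, 0, 0, 0, 0, 0, 0, 0, 0, 0, 0],
  [0, 0, 0, 0, 0, 0, 0, 0, 0, 0, 0, 0, 0, 0, 0, 0, 0, 0, 0, 0, 0, 0, 0, 8]]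

/-- rows of `b` -/
def rB : List (List ℤ) := [
  [-2, -2, 6, 0, 0, 0, 0, 0, 0, -2, 2, 0, 0, 0, 0, -2, 0, 0, 0, 0, -2, 0, 0, 2],
  [6, -2, -2, 0, 0, 0, 0, 0, 0, -2, 2, 0, 0, 0, 0, -2, 0, 0, 0, 0, -2, 0, 0, 2],
  [-2, 6, -2, 0, 0, 0, 0, 0, 0, -2, 2, 0, 0, 0, 0, -2, 0, 0, 0, 0, -2, 0, 0, 2],
  [-2, -2, -2, 0, 0, 0, 0, 0, 0, -2, 2, 0, 0, 0, 0, -2, 0, 0, 0, 0, 6, 0, 0, 2],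
  [0, 0, 0, 2, 2, -2, 2, 2, 2, 0, 0, -2, -2, 2, 2, 0, 2, 2, -2, 2, 0, -2, -2, 0],
  [-2, -2, -2, 0, 0, 0, 0, 0, 0, -2, 2, 0, 0, 0, 0, 6, 0, 0, 0, 0, -2, 0, 0, 2],
  [0, 0, 0, -2, -2, 2, -2, 2, 2, 0, 0, 2, -2, 2, 2, 0, 2, 2, 2, -2, 0, -2, 2, 0],
  [0, 0, 0, -2, 2, 2, 2, -2, 2, 0, 0, 2, -2, -2, 2, 0, -2, 2, 2, 2, 0, 2, -2, 0],
  [0, 0, 0, 2, -2, 2, 2, 2, 2, 0, 0, -2, 2, 2, -2, 0, -2, 2, 2, -2, 0, 2, -2, 0],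
  [0, 0, 0, 2, -2, 2, -2, 2, 2, 0, 0, 2, 2, -2, 2, 0, 2, -2, -2, 2, 0, 2, -2, 0],
  [0, 0, 0, 2, 2, 2, 2, -2, 2, 0, 0, 2, 2, 2, 2, 0, -2, -2, -2, -2, 0, -2, 2, 0],
  [0, 0, 0, 2, 2, 2, 2, 2, -2, 0, 0, 2, -2, -2, -2, 0, 2, 2, -2, -2, 0, 2, 2, 0],
  [0, 0, 0, -2, 2, -2, 2, 2, 2, 0, 0, -2, 2, -2, 2, 0, 2, -2, 2, -2, 0, 2, 2, 0],
  [0, 0, 0, 2, -2, -2, 2, 2, -2, 0, 0, 2, 2, -2, 2, 0, -2, 2, 2, 2, 0, -2, 2, 0],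
  [-2, -2, -2, 0, 0, 0, 0, 0, 0, 6, 2, 0, 0, 0, 0, -2, 0, 0, 0, 0, -2, 0, 0, 2],
  [0, 0, 0, 2, 2, 2, -2, 2, -2, 0, 0, -2, -2, 2, 2, 0, -2, -2, 2, 2, 0, 2, 2, 0],
  [0, 0, 0, 2, 2, -2, -2, -2, -2, 0, 0, 2, 2, 2, 2, 0, 2, 2, 2, -2, 0, 2, -2, 0],
  [2, 2, 2, 0, 0, 0, 0, 0, 0, 2, 6, 0, 0, 0, 0, 2, 0, 0, 0, 0, 2, 0, 0, -2],
  [0, 0, 0, 2, 2, 2, -2, -2, 2, 0, 0, -2, 2, -2, -2, 0, 2, 2, 2, 2, 0, -2, 2, 0],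
  [0, 0, 0, 2, -2, -2, 2, -2, 2, 0, 0, 2, -2, 2, -2, 0, 2, -2, 2, 2, 0, 2, 2, 0],
  [0, 0, 0, -2, 2, -2, -2, 2, 2, 0, 0, 2, 2, 2, -2, 0, -2, 2, -2, 2, 0, 2, 2, 0],
  [0, 0, 0, -2, -2, 2, 2, -2, -2, 0, 0, -2, 2, 2, 2, 0, 2, 2, -2, 2, 0, 2, 2, 0],
  [0, 0, 0, -2, 2, 2, 2, 2, -2, 0, 0, 2, 2, 2, -2, 0, 2, -2, 2, 2, 0, -2, -2, 0],
  [2, 2, 2, 0, 0, 0, 0, 0, 0, 2, -2, 0, 0, 0, 0, 2, 0, 0, 0, 0, 2, 0, 0, 6]]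

/-- columns of `b` -/
def cB : List (List ℤ) := [
  [-2, 6, -2, -2, 0, -2, 0, 0, 0, 0, 0, 0, 0, 0, -2, 0, 0, 2, 0, 0, 0, 0, 0, 2],
  [-2, -2, 6, -2, 0, -2, 0, 0, 0, 0, 0, 0, 0, 0, -2, 0, 0, 2, 0, 0, 0, 0, 0, 2],
  [6, -2, -2, -2, 0, -2, 0, 0, 0, 0, 0, 0, 0, 0, -2, 0, 0, 2, 0, 0, 0, 0, 0, 2],
  [0, 0, 0, 0, 2, 0, -2, -2, 2, 2, 2, 2, -2, 2, 0, 2, 2, 0, 2, 2, -2, -2, -2, 0],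
  [0, 0, 0, 0, 2, 0, -2, 2, -2, -2, 2, 2, 2, -2, 0, 2, 2, 0, 2, -2, 2, -2, 2, 0],
  [0, 0, 0, 0, -2, 0, 2, 2, 2, 2, 2, 2, -2, -2, 0, 2, -2, 0, 2, -2, -2, 2, 2, 0],
  [0, 0, 0, 0, 2, 0, -2, 2, 2, -2, 2, 2, 2, 2, 0, -2, -2, 0, -2, 2, -2, 2, 2, 0],
  [0, 0, 0, 0, 2, 0, 2, -2, 2, 2, -2, 2, 2, 2, 0, 2, -2, 0, -2, -2, 2, -2, 2, 0],
  [0, 0, 0, 0, 2, 0, 2, 2, 2, 2, 2, -2, 2, -2, 0, -2, -2, 0, 2, 2, 2, -2, -2, 0],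
  [-2, -2, -2, -2, 0, -2, 0, 0, 0, 0, 0, 0, 0, 0, 6, 0, 0, 2, 0, 0, 0, 0, 0, 2],
  [2, 2, 2, 2, 0, 2, 0, 0, 0, 0, 0, 0, 0, 0, 2, 0, 0, 6, 0, 0, 0, 0, 0, -2],
  [0, 0, 0, 0, -2, 0, 2, 2, -2, 2, 2, 2, -2, 2, 0, -2, 2, 0, -2, 2, 2, -2, 2, 0],
  [0, 0, 0, 0, -2, 0, -2, -2, 2, 2, 2, -2, 2, 2, 0, -2, 2, 0, 2, -2, 2, 2, 2, 0],
  [0, 0, 0, 0, 2, 0, 2, -2, 2, -2, 2, -2, -2, -2, 0, 2, 2, 0, -2, 2, 2, 2, 2, 0],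
  [0, 0, 0, 0, 2, 0, 2, 2, -2, 2, 2, -2, 2, 2, 0, 2, 2, 0, -2, -2, -2, 2, -2, 0],
  [-2, -2, -2, -2, 0, 6, 0, 0, 0, 0, 0, 0, 0, 0, -2, 0, 0, 2, 0, 0, 0, 0, 0, 2],
  [0, 0, 0, 0, 2, 0, 2, -2, -2, 2, -2, 2, 2, -2, 0, -2, 2, 0, 2, 2, -2, 2, 2, 0],
  [0, 0, 0, 0, 2, 0, 2, 2, 2, -2, -2, 2, -2, 2, 0, -2, 2, 0, 2, -2, 2, 2, -2, 0],
  [0, 0, 0, 0, -2, 0, 2, 2, 2, -2, -2, -2, 2, 2, 0, 2, 2, 0, 2, 2, -2, -2, 2, 0],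
  [0, 0, 0, 0, 2, 0, -2, 2, -2, 2, -2, -2, -2, 2, 0, 2, -2, 0, 2, 2, 2, 2, 2, 0],
  [-2, -2, -2, 6, 0, -2, 0, 0, 0, 0, 0, 0, 0, 0, -2, 0, 0, 2, 0, 0, 0, 0, 0, 2],
  [0, 0, 0, 0, -2, 0, -2, 2, 2, 2, -2, 2, 2, -2, 0, 2, 2, 0, -2, 2, 2, 2, -2, 0],
  [0, 0, 0, 0, -2, 0, 2, -2, -2, -2, 2, 2, 2, 2, 0, 2, -2, 0, 2, 2, 2, 2, -2, 0],
  [2, 2, 2, 2, 0, 2, 0, 0, 0, 0, 0, 0, 0, 0, 2, 0, 0, -2, 0, 0, 0, 0, 0, 6]]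

theorem okA : Ok rA cA := Ok.of_bool (by decide +kernel)

theorem okB' : Ok rB cB := Ok.of_bool (by decide +kernel)

/-- The letters. -/
def M : ℕ → List (List ℤ)
  | 0 => rA
  | _ => rB

/-- The elements of `Co₀`. -/
def e : ℕ → Co0
  | 0 => mk okA
  | _ => mk okB'

theorem rep : ∀ i, Rep (e i) (M i)
  | 0 => rep_mk okA
  | _ + 1 => rep_mk okB'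

/-- `n` copies of a word. -/
def rp (n : ℕ) (w : List ℕ) : List ℕ := (List.replicate n w).flatten

/-- The check that the word `w` has order `n`; `ps` is the list of the prime factors of `n`. -/
def ckW (n : ℕ) (ps w : List ℕ) : Bool :=
  oneB M (rp n w) && ps.all fun q => neB M (rp (n / q) w)

theorem ck23 : ckW 23 [23] [0] = true := by decide +kernel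

theorem ck20 : ckW 20 [2, 5] [0, 0, 0, 1] = true := by decide +kernel

theorem ck18 : ckW 18 [2, 3] [0, 0, 0, 0, 1] = true := by decide +kernel

theorem ck24 : ckW 24 [2, 3] [0, 0, 0, 1, 1] = true := by decide +kernel

theorem ck30 : ckW 30 [2, 3, 5] [0, 0, 1, 0, 1, 1] = true := by decide +kernel

theorem ck22 : ckW 22 [2, 11] [0, 0, 0, 1, 0, 0, 1, 1] = true := by decide +kernel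

end Cfsg.Agent.H417.Two.Co3Dat
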