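import Cfsg.Agent.H417.Two.SpThree
import Cfsg.Agent.H417.Two.Co3Dat
import Cfsg.Agent.H555.TwoSp.CoThreeSeven
import Cfsg.Agent.H143.RowCo3
import Cfsg.Agent.H651.Two.Row
import Cfsg.Agent.H651.Two.Count
import Cfsg.Agent.H492.IMTools2
import Cfsg.Agent.H548.Crit
import Cfsg.Agent.H573.Spor.Co0
import Cfsg.Agent.S2071

/-!
# `Co₃`, `p = 7`: two characters of degree divisible by seven (helper417)

`|C(x)| = 42` for the elements `x` of order seven, no elements of order 42, so `3` classes of `7'`-elements in `C(x)`;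
there are at least `20 = 18 + 2` classes of `7'`-elements in `Co₃`.
-/

set_option autoImplicit false

namespace Cfsg.Agent.H417.Two.Co3Seven

open Subgroup Cfsg
open Cfsg.Agent.SporRec.TwoSp6.Sp (S)
open Cfsg.Agent.SporRec.Co3.Chain (G3 isCo3_G3)
open Cfsg.Agent.SporRec.Co3.Ident (Z)
open Cfsg.Agent.H555.TwoSp (finite_G3 c7 n11 n23 c11 c23)

universe u

theorem iso_G3 : Cfsg.Spor.IsoCo3 G3 := ⟨Cfsg.Agent.SporRec.Co3.Model.equivCo3⟩

theorem card_G3 : Nat.card G3 = 495766656000 := isCo3_G3.2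

theorem cent_zpowers {G : Type*} [Group G] (x : G) :
    centralizer ((zpowers x : Subgroup G) : Set G) = centralizer ({x} : Set G) := by
  rw [zpowers_eq_closure, centralizer_closure]

/-- In `C(Z)` no element of order three commutes with an element of order seven. -/
theorem no21 {x p : G3} (hxZ : x * Z = Z * x) (hpZ : p * Z = Z * p) (hx : orderOf x = 7) (hp : p ^ 3 = 1)
    (hc : x * p = p * x) : p = 1 := by
  obtain ⟨π, N⟩ := Cfsg.Agent.KFacts.Co3D4.exists_NS_G3
  have h7 : Fact (Nat.Prime 7) := ⟨by norm_num⟩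
  have hxm : x ∈ centralizer ({Z} : Set G3) := mem_centralizer_singleton_iff.2 hxZ
  have hpm : p ∈ centralizer ({Z} : Set G3) := mem_centralizer_singleton_iff.2 hpZ
  have hx' : orderOf (⟨x, hxm⟩ : centralizer ({Z} : Set G3)) = 7 := by rw [Subgroup.orderOf_mk, hx]
  have hpx : orderOf (π ⟨x, hxm⟩) = 7 := by
    refine orderOf_eq_prime (by rw [← map_pow, ← hx', pow_orderOf_eq_one, map_one]) ?_
    intro h
    rcases N.ker _ h with h' | h'
    · rw [h', orderOf_one] at hx'; omega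
    · have h3 : orderOf (⟨x, hxm⟩ : centralizer ({Z} : Set G3)) = 2 := by
        rw [h']
        exact orderOf_eq_prime (by rw [pow_two]; exact N.z_sq) N.z_ne
      omega
  have h1 : π ⟨p, hpm⟩ = 1 := by
    refine Cfsg.Agent.H417.Two.SpThree.no_three hpx ?_ ?_
    · rw [← map_pow]
      have : (⟨p, hpm⟩ : centralizer ({Z} : Set G3)) ^ 3 = 1 := Subtype.ext hp
      rw [this, map_one]
    · rw [← map_mul, ← map_mul]
      exact congrArg π (Subtype.ext hc)
  rcases N.ker _ h1 with h' | h'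
  · exact congrArg Subtype.val h'
  · exfalso
    have h2 : (Z : G3) * Z = 1 := congrArg Subtype.val N.z_sq
    have h3 : p = Z := congrArg Subtype.val h'
    rw [h3, pow_three, h2, mul_one] at hp
    exact N.z_ne (Subtype.ext hp)

theorem not_four_dvd (b : ℕ) : ¬ 2 ^ 2 ∣ 7 * (2 * 3 ^ b) := by
  intro h
  have h1 : 2 * 2 ∣ 2 * (7 * 3 ^ b) := by
    have : 7 * (2 * 3 ^ b) = 2 * (7 * 3 ^ b) := by ring
    rw [← this]
    exact h
  have h2 : 2 ∣ 7 * 3 ^ b := Nat.dvd_of_mul_dvd_mul_left (by norm_num) h1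
  rcases (Nat.prime_two.dvd_mul).1 h2 with h3 | h3
  · omega
  · have := Nat.prime_two.dvd_of_dvd_pow h3
    omega

theorem seven_dvd : 7 ∣ Nat.card (centralizer ({Z} : Set G3)) := by
  have hfin := finite_G3
  obtain ⟨π, N⟩ := Cfsg.Agent.KFacts.Co3D4.exists_NS_G3
  have h1 : Nat.card S ∣ Nat.card (centralizer ({Z} : Set G3)) := Subgroup.card_dvd_of_surjective π N.surj
  rw [Cfsg.Agent.SporRec.TwoSp6.Sp.card_S] at h1
  exact (by norm_num : (7 : ℕ) ∣ 1451520).trans h1

/-- **`Co₃` has no element of order 42.** -/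
theorem no42 (g : G3) : orderOf g ≠ 42 := by
  intro hg
  have hfin := finite_G3
  have h7 : Fact (Nat.Prime 7) := ⟨by norm_num⟩
  obtain ⟨π, N⟩ := Cfsg.Agent.KFacts.Co3D4.exists_NS_G3
  obtain ⟨⟨x0, hx0m⟩, hx0⟩ := exists_prime_orderOf_dvd_card' 7 seven_dvd
  rw [Subgroup.orderOf_mk] at hx0
  have hx0Z : x0 * Z = Z * x0 := mem_centralizer_singleton_iff.1 hx0m
  have hg6 : orderOf (g ^ 6) = 7 := by rw [orderOf_pow, hg]; rfl
  obtain ⟨k, hk⟩ := Cfsg.Agent.H836.Sylow.conj_of_card (p := 7) (by norm_num) (by rw [card_G3]; norm_num)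
    (X := zpowers (g ^ 6)) (Y := zpowers x0) (by rw [Nat.card_zpowers, hg6]) (by rw [Nat.card_zpowers, hx0])
  obtain ⟨g1, hg1⟩ : ∃ g1, g1 = k * g * k⁻¹ := ⟨_, rfl⟩
  have hg1o : orderOf g1 = 42 := by
    rw [← hg, hg1]
    exact orderOf_injective (MulAut.conj k).toMonoidHom (MulAut.conj k).injective g
  have hx0g : Commute g1 x0 := by
    have h1 : x0 ∈ (zpowers (g ^ 6)).map (MulAut.conj k).toMonoidHom := by rw [hk]; exact mem_zpowers x0
    obtain ⟨y, ⟨m, rfl⟩, hy⟩ := h1
    have h2 : x0 = (g1 ^ 6) ^ m := by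
      rw [← hy, hg1, conj_pow, conj_zpow]
      rfl
    rw [h2]
    exact (Commute.refl g1).pow_right 6 |>.zpow_right m
  obtain ⟨b, -, hb⟩ := c7 iso_G3
  have hC := hb (zpowers x0) (by rw [Nat.card_zpowers, hx0])
  rw [cent_zpowers] at hC
  have hg1m : g1 ∈ centralizer ({x0} : Set G3) := mem_centralizer_singleton_iff.2 hx0g.eq
  have hZm : (Z : G3) ∈ centralizer ({x0} : Set G3) := mem_centralizer_singleton_iff.2 hx0Z.symm
  have hZ1 : (Z : G3) ≠ 1 := fun h => N.z_ne (Subtype.ext h)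
  have hZ2 : (Z : G3) * Z = 1 := congrArg Subtype.val N.z_sq
  have hZo : orderOf (Z : G3) = 2 := orderOf_eq_prime (by rw [pow_two]; exact hZ2) hZ1
  obtain ⟨c, hc⟩ := Cfsg.Agent.H836.Sylow.conj_of_card (G := centralizer ({x0} : Set G3)) (p := 2) Nat.prime_two
    (by rw [hC]; exact not_four_dvd b)
    (X := zpowers ((⟨g1, hg1m⟩ : centralizer ({x0} : Set G3)) ^ 21))
    (Y := zpowers (⟨Z, hZm⟩ : centralizer ({x0} : Set G3)))
    (by rw [Nat.card_zpowers, orderOf_pow, Subgroup.orderOf_mk, hg1o]; rfl)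
    (by rw [Nat.card_zpowers, Subgroup.orderOf_mk, hZo])
  obtain ⟨g2, hg2⟩ : ∃ g2 : G3, g2 = (c : G3) * g1 * (c : G3)⁻¹ := ⟨_, rfl⟩
  have hg2o : orderOf g2 = 42 := by
    rw [← hg1o, hg2]
    exact orderOf_injective (MulAut.conj (c : G3)).toMonoidHom (MulAut.conj (c : G3)).injective g1
  have hg2Z : Commute g2 (Z : G3) := by
    have h1 : (⟨Z, hZm⟩ : centralizer ({x0} : Set G3)) ∈
        (zpowers ((⟨g1, hg1m⟩ : centralizer ({x0} : Set G3)) ^ 21)).map (MulAut.conj c).toMonoidHom := by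
      rw [hc]; exact mem_zpowers _
    obtain ⟨y, ⟨m, rfl⟩, hy⟩ := h1
    have h2 := congrArg Subtype.val hy
    have h3 : (Z : G3) = (g2 ^ 21) ^ m := by
      refine h2.symm.trans ?_
      rw [hg2, conj_pow, conj_zpow]
      rfl
    rw [h3]
    exact (Commute.refl g2).pow_right 21 |>.zpow_right m
  have hg2x : Commute g2 x0 := by
    have h1 : g2 ∈ centralizer ({x0} : Set G3) := by
      rw [hg2]
      exact mul_mem (mul_mem c.2 hg1m) (inv_mem c.2)
    exact mem_centralizer_singleton_iff.1 h1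
  have h3 : g2 ^ 14 = 1 := by
    refine no21 (x := x0) hx0Z (hg2Z.pow_left 14).eq hx0 ?_ (hg2x.pow_left 14).eq.symm
    have h4 : 14 * 3 = orderOf g2 := by rw [hg2o]
    rw [← pow_mul, h4, pow_orderOf_eq_one]
  have h4 := orderOf_dvd_of_pow_eq_one h3
  rw [hg2o] at h4
  omega

theorem card_cent {x : G3} (hx : orderOf x = 7) : Nat.card (centralizer ({x} : Set G3)) = 7 * (2 * 3) := by
  have hfin := finite_G3
  obtain ⟨b, -, hb⟩ := c7 iso_G3
  have h1 := hb (zpowers x) (by rw [Nat.card_zpowers, hx])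
  obtain ⟨n, k, hn, hk, h2, -⟩ := Cfsg.Agent.H836.Sylow.card_normalizer (p := 7) (by norm_num)
    (by rw [card_G3]; norm_num) (X := zpowers x) (by rw [Nat.card_zpowers, hx])
  have h9 := Cfsg.Agent.H143.RowCo3.not_nine (y := x) (by
    rw [hx]
    unfold Cfsg.Agent.H149.Sp.P5
    norm_num)
  rw [card_G3] at h2
  rw [cent_zpowers] at h1 h2
  rw [h1] at h2 h9 ⊢
  have hb1 : b ≤ 1 := by
    by_contra hcon
    push Not at hcon
    apply h9
    have h3 : 3 ^ 2 ∣ 3 ^ b := pow_dvd_pow 3 hcon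
    exact (h3.mul_left 2).mul_left 7
  interval_cases b
  · exfalso
    have hk' : k ∣ 6 := hk
    have hk2 : k ≤ 6 := Nat.le_of_dvd (by norm_num) hk'
    interval_cases k <;> omega
  · rfl

theorem numCls_le {x : G3} (hx : orderOf x = 7) [Fact (Nat.Prime 7)] :
    Cfsg.Agent.H593.IMCyc.numCls 7 (zpowers x) ≤ 3 := by
  have hfin := finite_G3
  have h := Cfsg.Agent.H492.IMTools.numCls_le_dihedral (p := 7) (q := 3) hx Nat.prime_three (by norm_num) (by norm_num)
    (by norm_num) (card_cent hx) (fun g => no42 g)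
  omega

/-! ### Element orders -/

section orders

open Cfsg.Agent.H417.Two.Co3Dat Cfsg.Agent.SporadicStructure.Co0Matrix Cfsg.Agent.CoOneType.CoEval
open Cfsg.Agent.H573.Spor.Co0 (lV mem_Co3)

theorem prod_flatten {G : Type*} [Monoid G] (e : ℕ → G) (n : ℕ) (w : List ℕ) :
    ((rp n w).map e).prod = (w.map e).prod ^ n := by
  unfold rp
  induction n with
  | zero => simp
  | succ n ih =>
    rw [List.replicate_succ, List.flatten_cons, List.map_append, List.prod_append, ih, pow_succ']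

theorem mem_gen : ∀ i, ((e i : Co0) : Equiv.Perm leechLattice) ∈ Spor.Co3
  | 0 => mem_Co3 (rep 0) (by decide +kernel)
  | i + 1 => mem_Co3 (rep (i + 1)) (by
      show eqL (ap rB lV) lV = true
      decide +kernel)

/-- The element of a word. -/
noncomputable def el (w : List ℕ) : Spor.Co3 := (w.map fun i => (⟨_, mem_gen i⟩ : Spor.Co3)).prod

theorem coe_el (w : List ℕ) : ((el w : Spor.Co3) : Equiv.Perm leechLattice) = (((w.map e).prod : Co0) :
    Equiv.Perm leechLattice) := by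
  unfold el
  induction w with
  | nil => rfl
  | cons i w ih =>
    rw [List.map_cons, List.prod_cons, List.map_cons, List.prod_cons, Subgroup.coe_mul, ih]
    rfl

theorem orderOf_el {n : ℕ} (hn : 0 < n) {ps w : List ℕ} (hps : ∀ q : ℕ, q.Prime → q ∣ n → q ∈ ps)
    (h : ckW n ps w = true) : orderOf (el w) = n := by
  unfold ckW at h
  rw [Bool.and_eq_true, List.all_eq_true] at h
  obtain ⟨h1, h2⟩ := h
  have e1 := eq_one_of_oneB rep h1
  rw [prod_flatten] at e1
  have e2 : el w ^ n = 1 := by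
    apply Subtype.ext
    rw [Subgroup.coe_pow, coe_el, ← Subgroup.coe_pow, e1]
    rfl
  refine orderOf_eq_of_pow_and_pow_div_prime hn e2 fun q hq hqn hcon => ?_
  have h3 := ne_one_of_neB rep (h2 q (hps q hq hqn))
  rw [map_prod_pr, prod_flatten] at h3
  apply h3
  have h4 : (w.map e).prod ^ (n / q) = 1 := by
    apply Subtype.ext
    have h5 := congrArg (fun z : Spor.Co3 => (z : Equiv.Perm leechLattice)) hcon
    simp only [Subgroup.coe_pow] at h5
    rw [coe_el, ← Subgroup.coe_pow] at h5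
    exact h5
  rw [h4]
  rfl

theorem exists_order {n : ℕ} (hn : n ∈ ({1, 2, 3, 4, 5, 6, 8, 9, 10, 11, 12, 15, 18, 20, 22, 23, 24, 30} : Finset ℕ)) :
    ∃ g : Spor.Co3, orderOf g = n := by
  have key : ∀ (N n : ℕ) (g : Spor.Co3), orderOf g = N → 0 < N → n ∣ N → ∃ h : Spor.Co3, orderOf h = n := by
    rintro N n g hg hN ⟨m, hm⟩
    have hm0 : m ≠ 0 := by rintro rfl; omega
    refine ⟨g ^ m, ?_⟩
    rw [orderOf_pow' g hm0, hg, hm, Nat.gcd_mul_left_left, Nat.mul_div_cancel _ (Nat.pos_of_ne_zero hm0)]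
  have q2 : ∀ {q m : ℕ}, q.Prime → q ∣ m → ∀ ps : List ℕ, m = ps.prod → (∀ r ∈ ps, r.Prime) → q ∈ ps := by
    intro q m hq hqm ps hm hps
    rw [hm] at hqm
    obtain ⟨r, hr, hqr⟩ := (Nat.Prime.prime hq).dvd_prod_iff.1 hqm
    rwa [(Nat.prime_dvd_prime_iff_eq hq (hps r hr)).1 hqr]
  have o23 : orderOf (el [0]) = 23 := orderOf_el (by norm_num) (fun q hq h => q2 hq h [23] (by norm_num) (by
    simp; norm_num)) ck23
  have o20 : orderOf (el [0, 0, 0, 1]) = 20 := orderOf_el (by norm_num) (fun q hq h => by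
    have := q2 hq h [2, 2, 5] (by norm_num) (by simp; norm_num)
    simpa using this) ck20
  have o18 : orderOf (el [0, 0, 0, 0, 1]) = 18 := orderOf_el (by norm_num) (fun q hq h => by
    have := q2 hq h [2, 3, 3] (by norm_num) (by simp; norm_num)
    simpa using this) ck18
  have o24 : orderOf (el [0, 0, 0, 1, 1]) = 24 := orderOf_el (by norm_num) (fun q hq h => by
    have := q2 hq h [2, 2, 2, 3] (by norm_num) (by simp; norm_num)
    simpa using this) ck24
  have o30 : orderOf (el [0, 0, 1, 0, 1, 1]) = 30 := orderOf_el (by norm_num) (fun q hq h => by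
    have := q2 hq h [2, 3, 5] (by norm_num) (by simp; norm_num)
    simpa using this) ck30
  have o22 : orderOf (el [0, 0, 0, 1, 0, 0, 1, 1]) = 22 := orderOf_el (by norm_num) (fun q hq h => by
    have := q2 hq h [2, 11] (by norm_num) (by simp; norm_num)
    simpa using this) ck22
  simp only [Finset.mem_insert, Finset.mem_singleton] at hn
  rcases hn with rfl | rfl | rfl | rfl | rfl | rfl | rfl | rfl | rfl | rfl | rfl | rfl | rfl | rfl | rfl | rfl | rfl | rfl
  · exact key 24 1 _ o24 (by norm_num) (by norm_num)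
  · exact key 24 2 _ o24 (by norm_num) (by norm_num)
  · exact key 24 3 _ o24 (by norm_num) (by norm_num)
  · exact key 24 4 _ o24 (by norm_num) (by norm_num)
  · exact key 30 5 _ o30 (by norm_num) (by norm_num)
  · exact key 24 6 _ o24 (by norm_num) (by norm_num)
  · exact key 24 8 _ o24 (by norm_num) (by norm_num)
  · exact key 18 9 _ o18 (by norm_num) (by norm_num)
  · exact key 30 10 _ o30 (by norm_num) (by norm_num)
  · exact key 22 11 _ o22 (by norm_num) (by norm_num)
  · exact key 24 12 _ o24 (by norm_num) (by norm_num)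
  · exact key 30 15 _ o30 (by norm_num) (by norm_num)
  · exact ⟨_, o18⟩
  · exact ⟨_, o20⟩
  · exact ⟨_, o22⟩
  · exact ⟨_, o23⟩
  · exact ⟨_, o24⟩
  · exact ⟨_, o30⟩

end orders

/-! ### Counting -/

section count

open Cfsg.Agent.H651.Two Cfsg.Agent.H596.OneFacts Cfsg.Agent.H593.IMCyc

/-- An element inverted by nothing. -/
theorem not_real {G : Type*} [Group G] [Finite G] {x : G} (hx2 : x ^ 2 ≠ 1) {c k : ℕ}
    (hC : Nat.card (centralizer ((zpowers x : Subgroup G) : Set G)) = c)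
    (hN : Nat.card (normalizer ((zpowers x : Subgroup G) : Set G)) = c * k) (hk : Odd k) : ¬ IsConj x x⁻¹ := by
  intro h
  obtain ⟨g, hg⟩ := isConj_iff.1 h
  have hmem : ∀ y, y ∈ centralizer ((zpowers x : Subgroup G) : Set G) ↔ y * x = x * y := fun y => by
    rw [cent_zpowers, mem_centralizer_singleton_iff]
  have hgN : g ∈ normalizer ((zpowers x : Subgroup G) : Set G) := by
    rw [mem_normalizer_iff]
    have h1 : ∀ y, y ∈ zpowers x → g * y * g⁻¹ ∈ zpowers x := by
      rintro _ ⟨m, rfl⟩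
      show g * x ^ m * g⁻¹ ∈ zpowers x
      rw [← conj_zpow, hg]
      exact zpow_mem (inv_mem (mem_zpowers x)) m
    have hg' : g⁻¹ * x * g = x⁻¹ := by
      have h2 : x = g⁻¹ * x⁻¹ * g := by rw [← hg]; group
      have h3 : x⁻¹ = g⁻¹ * x * g := by
        have h4 : x⁻¹ = (g⁻¹ * x⁻¹ * g)⁻¹ := by rw [← h2]
        rw [h4]; group
      exact h3.symm
    intro y
    refine ⟨h1 y, fun hy => ?_⟩
    obtain ⟨m, hm⟩ := hy
    have h4 : y = g⁻¹ * x ^ m * g := by
      show y = g⁻¹ * x ^ m * g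
      have : x ^ m = g * y * g⁻¹ := hm
      rw [this]; group
    rw [h4]
    have h5 : g⁻¹ * x ^ m * g = (g⁻¹ * x * g) ^ m := by
      have := conj_zpow (i := m) (a := g⁻¹) (b := x)
      rw [inv_inv] at this
      exact this.symm
    rw [h5, hg']
    exact zpow_mem (inv_mem (mem_zpowers x)) m
  have hg2 : g ^ 2 ∈ centralizer ((zpowers x : Subgroup G) : Set G) := by
    rw [hmem, pow_two]
    have h2 : g * x = x⁻¹ * g := by rw [← hg]; group
    have h3 : g * x⁻¹ = x * g := by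
      have h4 : g * x⁻¹ * g⁻¹ = x := by
        have : g * x⁻¹ * g⁻¹ = (g * x * g⁻¹)⁻¹ := by group
        rw [this, hg, inv_inv]
      exact mul_inv_eq_iff_eq_mul.1 h4
    rw [mul_assoc, h2, ← mul_assoc, h3, mul_assoc]
  set C := centralizer ((zpowers x : Subgroup G) : Set G) with hCdef
  set N := normalizer ((zpowers x : Subgroup G) : Set G) with hNdef
  have hle : C ≤ N := Subgroup.centralizer_le_normalizer _
  have hnor : (C.subgroupOf N).Normal := by
    rw [hCdef, hNdef]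
    infer_instance
  have hidx : (C.subgroupOf N).index = k := by
    have h1 := (C.subgroupOf N).card_mul_index
    rw [Nat.card_congr (subgroupOfEquivOfLe hle).toEquiv, hN, hC] at h1
    have hc0 : 0 < c := by rw [← hC]; exact Nat.card_pos
    exact Nat.eq_of_mul_eq_mul_left hc0 h1
  have hgk : g ^ k ∈ C := by
    have h1 : (⟨g, hgN⟩ : N) ^ (C.subgroupOf N).index ∈ C.subgroupOf N := Subgroup.pow_index_mem _ _
    rw [hidx] at h1
    exact h1
  obtain ⟨m, rfl⟩ := hk
  have hgC : g ∈ C := by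
    have h1 : g ^ (2 * m + 1) = (g ^ 2) ^ m * g := by rw [pow_succ, pow_mul]
    rw [h1] at hgk
    exact (C.mul_mem_cancel_left (pow_mem hg2 m)).1 hgk
  have h6 := (hmem g).1 hgC
  apply hx2
  have h7 : g * x * g⁻¹ = x := by rw [h6, mul_inv_cancel_right]
  rw [hg] at h7
  rw [pow_two]
  nth_rw 1 [← h7]
  exact inv_mul_cancel x

/-- Counting `p'`-classes by orders and by elements which are not real. -/
theorem regular_nonreal {G : Type u} [Group G] [Finite G] {p : ℕ} [hp : Fact p.Prime]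
    (hG : (Nat.card G).factorization p = 1) {x : G} (hx : orderOf x = p) {e m : ℕ}
    (he : (Cfsg.Agent.H713.Count.fus (p := p) x).card ≤ e) (hm : numCls p (zpowers x) ≤ m)
    (S R : Finset ℕ) (hRS : R ⊆ S) (hS : ∀ n ∈ S, ¬ p ∣ n ∧ ∃ g : G, orderOf g = n)
    (hR : ∀ n ∈ R, ∃ g : G, orderOf g = n ∧ ¬ IsConj g g⁻¹) : S.card + R.card ≤ ND p G + e * m := by
  classical
  have hex : ∀ n : S, ∃ g : G, orderOf g = n ∧ ((n : ℕ) ∈ R → ¬ IsConj g g⁻¹) := by
    rintro ⟨n, hn⟩
    by_cases h : n ∈ R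
    · obtain ⟨g, h1, h2⟩ := hR n h
      exact ⟨g, h1, fun _ => h2⟩
    · obtain ⟨g, h1⟩ := (hS n hn).2
      exact ⟨g, h1, fun h' => absurd h' h⟩
  choose f hf1 hf2 using hex
  have hord : ∀ a b : G, IsConj a b → orderOf a = orderOf b := by
    intro a b h
    obtain ⟨c, hc⟩ := isConj_iff.1 h
    rw [← hc]
    exact (orderOf_injective (MulAut.conj c).toMonoidHom (MulAut.conj c).injective a).symm
  let t : S ⊕ R → G := Sum.elim f (fun n => (f ⟨n, hRS n.2⟩)⁻¹)
  have h := regular_le hG hx he hm t (by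
    rintro (n | n)
    · show ¬ p ∣ orderOf (f n)
      rw [hf1]; exact (hS n n.2).1
    · show ¬ p ∣ orderOf (f ⟨n, hRS n.2⟩)⁻¹
      rw [orderOf_inv, hf1]; exact (hS n (hRS n.2)).1) (by
    rintro (n | n) (k | k) hc
    · have h1 := hord _ _ hc
      change orderOf (f n) = orderOf (f k) at h1
      rw [hf1, hf1] at h1
      rw [Subtype.ext h1]
    · exfalso
      have h1 := hord _ _ hc
      change orderOf (f n) = orderOf (f ⟨k, hRS k.2⟩)⁻¹ at h1
      rw [orderOf_inv, hf1, hf1] at h1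
      have h2 : n = ⟨k, hRS k.2⟩ := Subtype.ext h1
      have h3 : IsConj (f n) (f ⟨k, hRS k.2⟩)⁻¹ := hc
      rw [h2] at h3
      exact hf2 ⟨k, hRS k.2⟩ k.2 h3
    · exfalso
      have h1 := hord _ _ hc
      change orderOf (f ⟨n, hRS n.2⟩)⁻¹ = orderOf (f k) at h1
      rw [orderOf_inv, hf1, hf1] at h1
      have h2 : k = ⟨n, hRS n.2⟩ := Subtype.ext h1.symm
      have h3 : IsConj (f ⟨n, hRS n.2⟩)⁻¹ (f k) := hc
      rw [h2] at h3
      exact hf2 ⟨n, hRS n.2⟩ n.2 h3.symm
    · have h1 := hord _ _ hc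
      change orderOf (f ⟨n, hRS n.2⟩)⁻¹ = orderOf (f ⟨k, hRS k.2⟩)⁻¹ at h1
      rw [orderOf_inv, orderOf_inv, hf1, hf1] at h1
      have h2 : n = k := Subtype.ext h1
      rw [h2])
  rw [Fintype.card_sum, Fintype.card_coe, Fintype.card_coe] at h
  exact h

theorem card_fus_le {G : Type*} [Group G] {p : ℕ} [hp : Fact p.Prime] (x : G) :
    (Cfsg.Agent.H713.Count.fus (p := p) x).card ≤ p - 1 := by
  classical
  have h1 : Cfsg.Agent.H713.Count.fus (p := p) x ⊆ Finset.univ.erase 0 := by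
    intro m hm
    rw [Cfsg.Agent.H713.Count.mem_fus] at hm
    exact Finset.mem_erase.2 ⟨hm.1, Finset.mem_univ _⟩
  refine (Finset.card_le_card h1).trans ?_
  rw [Finset.card_erase_of_mem (Finset.mem_univ _), Finset.card_univ, ZMod.card]

theorem two_le_ND : 2 ≤ ND 7 G3 := by
  have hfin := finite_G3
  have h7 : Fact (Nat.Prime 7) := ⟨by norm_num⟩
  obtain ⟨x, hx⟩ := exists_prime_orderOf_dvd_card' (G := G3) 7 (by rw [card_G3]; norm_num)
  have hG : (Nat.card G3).factorization 7 = 1 := by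
    rw [card_G3, show (495766656000 : ℕ) = 7 ^ 1 * 70823808000 by norm_num,
      Nat.factorization_mul (by norm_num) (by norm_num), Finsupp.add_apply, Nat.Prime.factorization_pow h7.out,
      Finsupp.single_eq_same, Nat.factorization_eq_zero_of_not_dvd (by norm_num)]
  have e0 : G3 ≃* Spor.Co3 := Cfsg.Agent.SporRec.Co3.Model.equivCo3
  have ho : ∀ n ∈ ({1, 2, 3, 4, 5, 6, 8, 9, 10, 11, 12, 15, 18, 20, 22, 23, 24, 30} : Finset ℕ), ¬ 7 ∣ n ∧
      ∃ g : G3, orderOf g = n := by
    intro n hn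
    refine ⟨?_, ?_⟩
    · revert n
      decide
    · obtain ⟨g, hg⟩ := exists_order hn
      exact ⟨e0.symm g, by rw [MulEquiv.orderOf_eq, hg]⟩
  have h := regular_nonreal hG hx (card_fus_le x) (numCls_le hx)
    {1, 2, 3, 4, 5, 6, 8, 9, 10, 11, 12, 15, 18, 20, 22, 23, 24, 30} {11, 23} (by decide) ho (by
      intro n hn
      obtain ⟨g, hg⟩ := (ho n (by
        revert n
        decide)).2
      refine ⟨g, hg, ?_⟩
      simp only [Finset.mem_insert, Finset.mem_singleton] at hn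
      have hz : Nat.card (zpowers g) = n := by rw [Nat.card_zpowers, hg]
      rcases hn with rfl | rfl
      · refine not_real (c := 22) (k := 5) ?_ (c11 iso_G3 _ hz) (n11 iso_G3 _ hz) (by decide)
        intro h2
        have := orderOf_dvd_of_pow_eq_one h2
        rw [hg] at this
        omega
      · refine not_real (c := 23) (k := 11) ?_ (c23 iso_G3 _ hz) (n23 iso_G3 _ hz) (by decide)
        intro h2
        have := orderOf_dvd_of_pow_eq_one h2
        rw [hg] at this
        omega)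
  have hc1 : ({1, 2, 3, 4, 5, 6, 8, 9, 10, 11, 12, 15, 18, 20, 22, 23, 24, 30} : Finset ℕ).card = 18 := by decide
  have hc2 : ({11, 23} : Finset ℕ).card = 2 := by decide
  rw [hc1, hc2] at h
  omega

/-- **`Co₃`, `p = 7`.** -/
theorem two_seven : Two 7 Spor.Co3 := by
  have hfin := finite_G3
  refine two_of_equiv Cfsg.Agent.SporRec.Co3.Model.equivCo3.symm (two_of_lt ?_)
  rw [Cfsg.Agent.H548.Crit.card_out_congr Cfsg.Agent.SporRec.Co3.Model.equivCo3, Cfsg.Agent.S2071.result]
  exact two_le_ND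

end count

end Cfsg.Agent.H417.Two.Co3Seven
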