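import Cfsg.Agent.H555.TwoSp.SpSeven

/-!
# No element of order three of `Sp₆(2)` commutes with an element of order seven (helper417)
-/

set_option autoImplicit false

namespace Cfsg.Agent.H417.Two.SpThree

open Subgroup Cfsg.Agent.SporRec.TwoSp6.Sp Cfsg.Agent.H555.TwoSp.SpSeven

/-- fixed points of a map with `f³ = 1` -/
theorem card_modEq3 {α : Type*} [Finite α] {f : α → α} (hf : ∀ a, f (f (f a)) = a) :
    Nat.card α ≡ Nat.card {a // f a = a} [MOD 3] := by
  classical
  let _ : Fintype α := Fintype.ofFinite α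
  have : Fact (Nat.Prime 3) := ⟨by norm_num⟩
  let F : Function.End α := f
  have h1 : F ^ 3 ^ 1 = 1 := by
    funext a
    exact hf a
  have h2 := Equiv.Perm.card_fixedPoints_modEq h1
  rw [← Nat.card_eq_fintype_card, ← Nat.card_eq_fintype_card] at h2
  exact h2

variable {g : S} (hg : orderOf g = 7)
include hg

/-- the commuting element of order three is trivial on an invariant subgroup of order 1 or 8 -/
theorem triv {h : S} (hh : h ^ 3 = 1) (hc : g * h = h * g) (W : AddSubgroup V) (hW : ∀ w ∈ W, na g w ∈ W)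
    (hW2 : ∀ w ∈ W, na h w ∈ W) (h64 : Nat.card W ≠ 64) : ∀ w ∈ W, na h w = w := by
  have hcv : ∀ v, na g (na h v) = na h (na g v) := by
    intro v
    rw [na_apply, na_apply, na_apply, na_apply, ← act_mul, ← act_mul, hc]
  have hhv : ∀ v, na h (na h (na h v)) = v := by
    intro v
    rw [na_apply, na_apply, na_apply, ← act_mul, ← act_mul, ← pow_three', hh, act_one]
  let W' : AddSubgroup V :=
    { carrier := {w | w ∈ W ∧ na h w = w}
      add_mem' := fun {a b} ha hb => ⟨W.add_mem ha.1 hb.1, by rw [map_add, ha.2, hb.2]⟩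
      zero_mem' := ⟨W.zero_mem, map_zero _⟩
      neg_mem' := fun {a} ha => ⟨W.neg_mem ha.1, by rw [map_neg, ha.2]⟩ }
  have hW'W : W' ≤ W := fun w hw => hw.1
  have hW'g : ∀ w ∈ W', na g w ∈ W' := fun w hw => ⟨hW w hw.1, by rw [← hcv, hw.2]⟩
  have hle : Nat.card W' ≤ Nat.card W := AddSubgroup.card_le_of_le hW'W
  have h1 := card_modEq3 (α := W) (f := fun w => ⟨na h w, hW2 w w.2⟩) (fun w => Subtype.ext (hhv w))
  have h2 : Nat.card {w : W // (⟨na h w, hW2 w w.2⟩ : W) = w} = Nat.card W' := by
    refine Nat.card_congr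
      { toFun := fun w => ⟨w.1.1, w.1.2, congrArg Subtype.val w.2⟩
        invFun := fun w => ⟨⟨w.1, w.2.1⟩, Subtype.ext w.2.2⟩
        left_inv := fun _ => rfl
        right_inv := fun _ => rfl }
  rw [h2] at h1
  intro w hw
  have h8 : Nat.card W' = Nat.card W := by
    have h1' : Nat.card W % 3 = Nat.card W' % 3 := h1
    rcases card_inv hg W hW with h | h | h <;> rcases card_inv hg W' hW'g with h' | h' | h' <;> omega
  have h9 : W' = W := AddSubgroup.eq_of_le_of_card_ge hW'W (by omega)
  rw [← h9] at hw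
  exact hw.2

/-- **No element of order three commutes with an element of order seven.** -/
theorem no_three {h : S} (hh : h ^ 3 = 1) (hc : g * h = h * g) : h = 1 := by
  have hcv : ∀ v, na g (na h v) = na h (na g v) := by
    intro v
    rw [na_apply, na_apply, na_apply, na_apply, ← act_mul, ← act_mul, hc]
  have hA : ∀ w ∈ (opA g).ker, na h w = w := by
    refine triv hg hh hc _ (fun w hw => A_mem hg w hw) (fun w hw => ?_) (fun h64 => ?_)
    · have h1 : opA g w = 0 := hw
      change opA g (na h w) = 0
      rw [opA_apply] at h1 ⊢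
      rw [hcv, hcv, hcv, ← map_add, ← map_add, h1, map_zero]
    · exact not_A hg fun v => eq_top_of_card hg h64 v
  have hB : ∀ w ∈ (opB g).ker, na h w = w := by
    refine triv hg hh hc _ (fun w hw => B_mem hg w hw) (fun w hw => ?_) (fun h64 => ?_)
    · have h1 : opB g w = 0 := hw
      change opB g (na h w) = 0
      rw [opB_apply] at h1 ⊢
      rw [hcv, hcv, hcv, ← map_add, ← map_add, h1, map_zero]
    · exact not_B hg fun v => eq_top_of_card hg h64 v
  apply act_ext
  intro v
  rw [act_one]
  change na h v = v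
  have h1 := bezout g v
  have h2 : na g (opA g v) ∈ (opB g).ker := B_mem hg _ (BA hg v)
  have h3 : na g (opB g v) + opB g v ∈ (opA g).ker := by
    have h4 : opB g v ∈ (opA g).ker := AB hg v
    exact (opA g).ker.add_mem (A_mem hg _ h4) h4
  rw [h1, map_add, hB _ h2, hA _ h3]

end Cfsg.Agent.H417.Two.SpThree
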